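import Mathlib.RingTheory.Flat.EquationalCriterion
import Mathlib.LinearAlgebra.TensorProduct.Basis
import Mathlib.LinearAlgebra.TensorProduct.Tower
import Mathlib.Algebra.Module.Torsion.Basic
import Mathlib.RingTheory.Flat.Basic

/-!
# Coordinates of torsion elements in a flat module

`exists_ne_zero_of_free_quotient`: if `M` is flat over `R`, `I` is a finitely generated ideal such that
`M / I M` is free over `R / I` and `k ∈ M` is a nonzero element killed by `I`, then there is a nonzero
`x ∈ R` killed by every `a ∈ R` which kills `k`.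
-/

set_option autoImplicit false

universe u v

open TensorProduct

namespace Groth.Agent.Ega4late.H537.FlatCoord

variable {R : Type u} [CommRing R] {M : Type v} [AddCommGroup M] [Module R M]

/-- In a flat module every element killed by a f.g. ideal `I` is a combination of elements of `M` with
coefficients in `R` killed by `I`: it is in the image of `R[I] ⊗ M → M`. -/
theorem exists_tensor_of_torsion [Module.Flat R M] (I : Ideal R) (hI : I.FG) (k : M)
    (hk : ∀ a ∈ I, a • k = 0) :
    ∃ t : (Submodule.torsionBySet R R (I : Set R)) ⊗[R] M,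
      TensorProduct.lid R M (LinearMap.rTensor M (Submodule.subtype _) t) = k := by
  classical
  have : Module.Finite R I := Module.Finite.of_fg hI
  have h0 : (LinearMap.toSpanSingleton R M k) ∘ₗ (Submodule.subtype I) = 0 := by
    ext a
    simpa using hk a.1 a.2
  obtain ⟨n, a, y, hya, ha⟩ := Module.Flat.exists_factorization_of_comp_eq_zero_of_free h0
  have h1 : ∀ i, (a 1) i ∈ Submodule.torsionBySet R R (I : Set R) := by
    intro i
    rw [Submodule.mem_torsionBySet_iff]
    intro c
    have := LinearMap.congr_fun ha (⟨c.1, c.2⟩ : I)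
    simp only [LinearMap.comp_apply, Submodule.subtype_apply, LinearMap.zero_apply] at this
    have h2 : a c.1 = c.1 • a 1 := by rw [← map_smul, smul_eq_mul, mul_one]
    rw [h2] at this
    simpa using DFunLike.congr_fun this i
  refine ⟨∑ i : Fin n, (⟨(a 1) i, h1 i⟩ : Submodule.torsionBySet R R (I : Set R)) ⊗ₜ[R]
    y (Finsupp.single i 1), ?_⟩
  have hk' : k = y (a 1) := by
    have := LinearMap.congr_fun hya 1
    simpa using this
  rw [map_sum, map_sum, hk']
  simp only [LinearMap.rTensor_tmul, Submodule.subtype_apply, TensorProduct.lid_tmul]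
  conv_rhs => rw [← Finsupp.univ_sum_single (a 1)]
  rw [map_sum]
  refine Finset.sum_congr rfl fun i _ => ?_
  rw [← map_smul, Finsupp.smul_single, smul_eq_mul, mul_one]

/-- The key coordinate lemma. -/
theorem exists_ne_zero_of_free_quotient [Module.Flat R M] (I : Ideal R) (hI : I.FG)
    [Module.Free (R ⧸ I) ((R ⧸ I) ⊗[R] M)] (k : M) (hk0 : k ≠ 0)
    (hk : ∀ a ∈ I, a • k = 0) :
    ∃ x : R, x ≠ 0 ∧ ∀ a : R, a • k = 0 → a * x = 0 := by
  classical
  obtain ⟨t, ht⟩ := exists_tensor_of_torsion I hI k hk
  let N := Submodule.torsionBySet R R (I : Set R)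
  let b := Module.Free.chooseBasis (R ⧸ I) ((R ⧸ I) ⊗[R] M)
  let e1 : N ⊗[R ⧸ I] ((R ⧸ I) ⊗[R] M) ≃ₗ[R ⧸ I] N ⊗[R] M :=
    TensorProduct.AlgebraTensorModule.cancelBaseChange R (R ⧸ I) (R ⧸ I) N M
  let e2 : N ⊗[R ⧸ I] ((R ⧸ I) ⊗[R] M) ≃ₗ[R ⧸ I] (_ →₀ N) :=
    TensorProduct.equivFinsuppOfBasisRight b
  let Φ : N ⊗[R] M ≃ₗ[R ⧸ I] (_ →₀ N) := e1.symm.trans e2
  have hinj : Function.Injective (LinearMap.rTensor M (Submodule.subtype N)) :=
    Module.Flat.rTensor_preserves_injective_linearMap _ (Submodule.subtype_injective N)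
  have ht0 : t ≠ 0 := by
    rintro rfl
    apply hk0
    rw [← ht]; simp
  have hΦ : Φ t ≠ 0 := by
    rw [ne_eq, LinearEquiv.map_eq_zero_iff]
    exact ht0
  obtain ⟨i, hi⟩ := Finsupp.ne_iff.mp hΦ
  refine ⟨((Φ t) i : R), ?_, ?_⟩
  · intro h
    apply hi
    exact Subtype.ext h
  · intro a ha
    have h1 : (Ideal.Quotient.mk I a) • t = 0 := by
      have h2 : (Ideal.Quotient.mk I a) • t = a • t := by
        rw [← Ideal.Quotient.algebraMap_eq, algebraMap_smul]
      rw [h2]
      apply hinj
      rw [map_smul, map_zero]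
      apply (TensorProduct.lid R M).injective
      rw [map_smul, map_zero, ht, ha]
    have h3 : (Ideal.Quotient.mk I a) • Φ t = 0 := by
      rw [← map_smul, h1, map_zero]
    have h4 := DFunLike.congr_fun h3 i
    rw [Finsupp.smul_apply] at h4
    have h5 : (Ideal.Quotient.mk I a) • (Φ t i) = a • (Φ t i) := rfl
    rw [h5] at h4
    have h6 := congrArg (fun z : N => (z : R)) h4
    simpa using h6

end Groth.Agent.Ega4late.H537.FlatCoord
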