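import Groth.Agent.Ega4late.H537.FlatCoord
import Groth.Agent.FlatA.GenericFree2
import Mathlib.RingTheory.Extension.Presentation.Core
import Mathlib.RingTheory.Ideal.MinimalPrime.Localization
import Mathlib.RingTheory.Finiteness.Ideal
import Mathlib.RingTheory.Noetherian.Nilpotent
import Mathlib.RingTheory.Flat.Stability

/-!
# Torsion in flat finitely presented algebras comes from torsion in the base

`exists_torsion_witness`: `A → B` flat of finite presentation, `k ∈ B` nonzero. Then there are `h ∈ A` and a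
nonzero `x ∈ A_h` with `Ann_A(k) x = 0`. There is no finiteness condition on `Ann_A(k)`.
-/

set_option autoImplicit false

universe u v w

open TensorProduct

namespace Groth.Agent.Ega4late.H537.FlatTorsion

/-- Generic freeness, spread out: for a finite type `A₀`-algebra `S₀` and a prime `p₀` of `A₀` there is
`f₀ ∉ p₀` such that `C ⊗ S₀` is free over every `A₀`-algebra `C` in which `p₀` becomes zero and `f₀`
becomes a unit. -/
theorem exists_free_tensor (A₀ : Type u) (S₀ : Type v) [CommRing A₀] [CommRing S₀] [Algebra A₀ S₀]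
    [Algebra.FiniteType A₀ S₀] (p₀ : Ideal A₀) [p₀.IsPrime] :
    ∃ f₀ ∉ p₀, ∀ (C : Type w) [CommRing C] [Algebra A₀ C], (∀ a ∈ p₀, algebraMap A₀ C a = 0) →
      IsUnit (algebraMap A₀ C f₀) → Module.Free C (C ⊗[A₀] S₀) := by
  obtain ⟨f, hf, hfree⟩ := Groth.Agent.FlatA.GenericFree.genFree_of_finiteType (R := A₀ ⧸ p₀)
    ((A₀ ⧸ p₀) ⊗[A₀] S₀) ((A₀ ⧸ p₀) ⊗[A₀] S₀)
  obtain ⟨f₀, rfl⟩ := Ideal.Quotient.mk_surjective f
  refine ⟨f₀, fun h => hf (Ideal.Quotient.eq_zero_iff_mem.mpr h), ?_⟩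
  intro C _ _ hp hu
  let _ : Algebra (A₀ ⧸ p₀) C := (Ideal.Quotient.lift p₀ (algebraMap A₀ C) hp).toAlgebra
  have : IsScalarTower A₀ (A₀ ⧸ p₀) C := IsScalarTower.of_algebraMap_eq' rfl
  have hu' : IsUnit (algebraMap (A₀ ⧸ p₀) C (Ideal.Quotient.mk p₀ f₀)) := hu
  let L := Localization.Away (Ideal.Quotient.mk p₀ f₀)
  let _ : Algebra L C := (IsLocalization.Away.lift (Ideal.Quotient.mk p₀ f₀) hu').toAlgebra
  have : IsScalarTower (A₀ ⧸ p₀) L C := IsScalarTower.of_algebraMap_eq fun x =>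
    (IsLocalization.Away.lift_eq (S := L) (Ideal.Quotient.mk p₀ f₀) hu' x).symm
  have := hfree.free_tensor L
  have : Module.Free C (C ⊗[L] (L ⊗[A₀ ⧸ p₀] ((A₀ ⧸ p₀) ⊗[A₀] S₀))) := inferInstance
  exact Module.Free.of_equiv
    ((AlgebraTensorModule.cancelBaseChange (A₀ ⧸ p₀) L C C ((A₀ ⧸ p₀) ⊗[A₀] S₀)).trans
      (AlgebraTensorModule.cancelBaseChange A₀ (A₀ ⧸ p₀) C C S₀))

variable {A : Type u} {B : Type v} [CommRing A] [CommRing B] [Algebra A B]

/-- `A → B` flat of finite presentation, `k ∈ B` nonzero: there are `h ∈ A` and `x ∈ A_h` nonzero which is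
killed by the annihilator of `k`. -/
theorem exists_torsion_witness [Module.Flat A B] [Algebra.FinitePresentation A B] (k : B)
    (hk0 : k ≠ 0) :
    ∃ (h : A) (x : Localization.Away h), x ≠ 0 ∧
      ∀ a : A, algebraMap A B a * k = 0 → algebraMap A (Localization.Away h) a * x = 0 := by
  classical
  -- the annihilator and a minimal prime over it
  let J : Ideal A := Ideal.torsionOf A B k
  have hJmem : ∀ a : A, a ∈ J ↔ a • k = 0 := fun a => Ideal.mem_torsionOf_iff k a
  have hJ : J ≠ ⊤ := by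
    intro h
    apply hk0
    have h1 : (1 : A) ∈ J := by rw [h]; trivial
    simpa using (hJmem 1).mp h1
  obtain ⟨p, hp⟩ := Ideal.nonempty_minimalPrimes hJ
  have hpp : p.IsPrime := hp.1.1
  have hJp : J ≤ p := hp.1.2
  -- the descent data
  let P := Algebra.Presentation.ofFinitePresentation A B
  let A₀ := P.Core
  let B₀ := P.ModelOfHasCoeffs A₀
  have hA₀ : IsNoetherianRing A₀ := Algebra.FiniteType.isNoetherianRing ℤ A₀
  let e : A ⊗[A₀] B₀ ≃ₐ[A] B := P.tensorModelOfHasCoeffsEquiv A₀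
  let p₀ : Ideal A₀ := p.comap (algebraMap A₀ A)
  have : p₀.IsPrime := Ideal.comap_isPrime _ _
  obtain ⟨f₀, hf₀, hfree⟩ := exists_free_tensor.{_, _, u} A₀ B₀ p₀
  -- a power of `p₀` is locally contained in `J`
  let Ap := Localization.AtPrime p
  let J' : Ideal A₀ := (J.map (algebraMap A Ap)).comap ((algebraMap A Ap).comp (algebraMap A₀ A))
  have hJ'mem : ∀ a : A₀, a ∈ J' → ∃ s ∉ p, s * (algebraMap A₀ A a) ∈ J := by
    intro a ha
    have ha' : algebraMap A Ap (algebraMap A₀ A a) ∈ J.map (algebraMap A Ap) := ha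
    obtain ⟨m, hm, hmem⟩ := (IsLocalization.algebraMap_mem_map_algebraMap_iff p.primeCompl Ap J
      (algebraMap A₀ A a)).mp ha'
    exact ⟨m, hm, hmem⟩
  have hrad : p₀ ≤ J'.radical := by
    intro a ha
    have h1 : algebraMap A Ap (algebraMap A₀ A a) ∈ (J.map (algebraMap A Ap)).radical := by
      rw [IsLocalization.AtPrime.radical_map_of_mem_minimalPrimes Ap p J hp]
      exact Ideal.mem_map_of_mem _ ha
    obtain ⟨n, hn⟩ := h1
    exact ⟨n, by simpa [J'] using hn⟩
  obtain ⟨n, hn⟩ := Ideal.exists_pow_le_of_le_radical_of_fg hrad (IsNoetherian.noetherian p₀)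
  -- a common denominator
  obtain ⟨s, hs, hsJ⟩ : ∃ s ∉ p, ∀ a ∈ p₀ ^ n, s * (algebraMap A₀ A a) ∈ J := by
    obtain ⟨T, hT⟩ := (IsNoetherian.noetherian (p₀ ^ n) : (p₀ ^ n).FG)
    have hT' : ∀ t : T, ∃ s ∉ p, s * (algebraMap A₀ A t) ∈ J := fun t =>
      hJ'mem _ (hn (hT ▸ Ideal.subset_span t.2))
    choose c hc hcJ using hT'
    refine ⟨∏ t, c t, ?_, ?_⟩
    · rw [Ideal.IsPrime.prod_mem_iff]
      rintro ⟨t, -, ht⟩
      exact hc t ht
    · intro a ha
      rw [← hT] at ha
      induction ha using Submodule.span_induction with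
      | mem x hx =>
        rw [← Finset.prod_erase_mul _ _ (Finset.mem_univ (⟨x, hx⟩ : T)), mul_assoc]
        exact J.mul_mem_left _ (hcJ ⟨x, hx⟩)
      | zero => simp
      | add x y _ _ hx hy => rw [map_add, mul_add]; exact J.add_mem hx hy
      | smul r x _ hx =>
        rw [smul_eq_mul, map_mul, mul_left_comm]
        exact J.mul_mem_left _ hx
  let h : A := algebraMap A₀ A f₀ * s
  have hh : h ∉ p := fun H => (hpp.mem_or_mem H).elim hf₀ hs
  let A' := Localization.Away h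
  let I₁ : Ideal A' := p₀.map ((algebraMap A A').comp (algebraMap A₀ A))
  have hI₁ : I₁.FG := Ideal.FG.map (IsNoetherian.noetherian p₀ : p₀.FG) _
  let M := A' ⊗[A] B
  have : Module.Flat A' M := inferInstance
  -- freeness
  have hfr : Module.Free (A' ⧸ I₁) ((A' ⧸ I₁) ⊗[A'] M) := by
    have h1 : Module.Free (A' ⧸ I₁) ((A' ⧸ I₁) ⊗[A₀] B₀) := by
      apply hfree (A' ⧸ I₁)
      · intro a ha
        exact Ideal.Quotient.eq_zero_iff_mem.mpr (Ideal.mem_map_of_mem _ ha)
      · have hu : IsUnit (algebraMap A A' h) := IsLocalization.Away.algebraMap_isUnit h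
        rw [map_mul] at hu
        exact (isUnit_of_mul_isUnit_left hu).map (Ideal.Quotient.mk I₁)
    exact Module.Free.of_equiv (((AlgebraTensorModule.cancelBaseChange A₀ A (A' ⧸ I₁) (A' ⧸ I₁) B₀).symm.trans
      (AlgebraTensorModule.congr (LinearEquiv.refl (A' ⧸ I₁) (A' ⧸ I₁)) e.toLinearEquiv)).trans
      (AlgebraTensorModule.cancelBaseChange A A' (A' ⧸ I₁) (A' ⧸ I₁) B).symm)
  -- the element
  let k' : M := (1 : A') ⊗ₜ[A] k
  have hk'0 : k' ≠ 0 := by
    intro H
    have hloc : IsLocalizedModule (Submonoid.powers h) (TensorProduct.mk A A' B 1) :=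
      (isLocalizedModule_iff_isBaseChange (Submonoid.powers h) A' _).mpr
        (TensorProduct.isBaseChange A B A')
    obtain ⟨c, hc⟩ := (IsLocalizedModule.eq_zero_iff (Submonoid.powers h)
      (TensorProduct.mk A A' B 1)).mp H
    obtain ⟨c, m, rfl⟩ := c
    have h2 : h ^ m ∈ J := (hJmem _).mpr hc
    exact hh (hpp.mem_of_pow_mem m (hJp h2))
  have hann : ∀ a : A, a • k = 0 → ∀ y : A', (algebraMap A A' a) • (y • k') = 0 := by
    intro a ha y
    rw [smul_comm, algebraMap_smul, ← TensorProduct.tmul_smul, ha, TensorProduct.tmul_zero,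
      smul_zero]
  have hI₁n : ∀ z ∈ I₁ ^ n, z • k' = 0 := by
    intro z hz
    have h1 : I₁ ^ n = (p₀ ^ n).map ((algebraMap A A').comp (algebraMap A₀ A)) :=
      (Ideal.map_pow _ _ _).symm
    rw [h1] at hz
    have h2 : (p₀ ^ n).map ((algebraMap A A').comp (algebraMap A₀ A)) ≤
        Ideal.torsionOf A' M k' := by
      rw [Ideal.map_le_iff_le_comap]
      intro a ha
      rw [Ideal.mem_comap, Ideal.mem_torsionOf_iff]
      have h3 := hann _ ((hJmem _).mp (hsJ a ha)) 1
      rw [one_smul, map_mul, mul_comm, mul_smul] at h3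
      have hu : IsUnit (algebraMap A A' s) := by
        have hu : IsUnit (algebraMap A A' h) := IsLocalization.Away.algebraMap_isUnit h
        rw [map_mul] at hu
        exact isUnit_of_mul_isUnit_right hu
      rw [smul_comm, hu.smul_eq_zero] at h3
      exact h3
    exact (Ideal.mem_torsionOf_iff k' z).mp (h2 hz)
  -- replace `k'` by a nonzero multiple killed by `I₁`
  obtain ⟨y, hy0, hyI⟩ : ∃ y : A', y • k' ≠ 0 ∧ ∀ z ∈ I₁, z • (y • k') = 0 := by
    have hex : ∃ m, ∀ z ∈ I₁ ^ m, z • k' = 0 := ⟨n, hI₁n⟩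
    have hm := Nat.find_spec hex
    have hm0 : Nat.find hex ≠ 0 := by
      intro H
      rw [H] at hm
      apply hk'0
      simpa using hm 1 (by simp)
    obtain ⟨m, hmm⟩ := Nat.exists_eq_succ_of_ne_zero hm0
    have hlt : ¬ (∀ z ∈ I₁ ^ m, z • k' = 0) := Nat.find_min hex (by omega)
    push Not at hlt
    obtain ⟨y, hy, hy0⟩ := hlt
    refine ⟨y, hy0, fun z hz => ?_⟩
    rw [← mul_smul]
    apply hm
    rw [hmm, pow_succ, mul_comm z y]
    exact Ideal.mul_mem_mul hy hz
  obtain ⟨x, hx0, hx⟩ := Groth.Agent.Ega4late.H537.FlatCoord.exists_ne_zero_of_free_quotient I₁ hI₁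
    (y • k') hy0 hyI
  refine ⟨h, x, hx0, fun a ha => hx _ (hann a ?_ y)⟩
  rw [Algebra.smul_def]; exact ha

end Groth.Agent.Ega4late.H537.FlatTorsion
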