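import Groth.Agent.Ega4late.H537.FlatTorsion
import Groth.Prelude.Def_CInt
import Mathlib.AlgebraicGeometry.Morphisms.Flat
import Mathlib.AlgebraicGeometry.Morphisms.FinitePresentation
import Mathlib.AlgebraicGeometry.Morphisms.QuasiCompact

/-!
# Schematically dense opens pull back along flat morphisms locally of finite presentation
-/

set_option autoImplicit false
universe u
open CategoryTheory CategoryTheory.Limits AlgebraicGeometry TopologicalSpace

namespace Groth.Agent.Ega4late.H537.SchDensePull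

/-- A section over an affine open which vanishes on an open `V` is killed by a power of every `a` with
`D(a) ≤ V`. -/
theorem exists_pow_mul_eq_zero_of_basicOpen_le {X : Scheme.{u}} {U : X.Opens} (hU : IsAffineOpen U)
    (k a : Γ(X, U)) (W : X.Opens) (hW : W ≤ U) (hk : X.presheaf.map (homOfLE hW).op k = 0)
    (ha : X.basicOpen a ≤ W) : ∃ n : ℕ, a ^ n * k = 0 := by
  apply exists_pow_mul_eq_zero_of_res_basicOpen_eq_zero_of_isAffineOpen X hU k a
  have h1 : X.presheaf.map (homOfLE ha).op (X.presheaf.map (homOfLE hW).op k) = 0 := by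
    rw [hk, map_zero]
  rw [← CommRingCat.comp_apply, ← Functor.map_comp] at h1
  exact h1

/-- If every section over each affine open in a family covering each point vanishes, then so does the
section (germwise form). -/
theorem eq_zero_of_forall_germ {X : Scheme.{u}} (W : X.Opens) (s : Γ(X, W))
    (h : ∀ x (hx : x ∈ W), X.presheaf.germ W x hx s = 0) : s = 0 := by
  apply TopCat.Presheaf.section_ext X.sheaf W s 0
  intro x hx
  rw [map_zero]
  exact h x hx

/-- Schematic density as a statement on vanishing of sections. -/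
theorem eq_zero_of_isSchematicallyDense {X : Scheme.{u}} {V : X.Opens}
    (hV : CInt.IsSchematicallyDense V) (W : X.Opens) (s : Γ(X, W))
    (h : ∀ x (hx : x ∈ W), x ∈ V → X.presheaf.germ W x hx s = 0) : s = 0 := by
  apply hV W
  rw [map_zero]
  apply eq_zero_of_forall_germ
  intro x hx
  rw [← CommRingCat.comp_apply, X.presheaf.germ_res]
  exact h x hx.1 hx.2

theorem isSchematicallyDense_preimage {X X' : Scheme.{u}} (f : X' ⟶ X) [Flat f]
    [LocallyOfFinitePresentation f] (V : X.Opens) (hV : CInt.IsSchematicallyDense V) :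
    CInt.IsSchematicallyDense (f ⁻¹ᵁ V) := by
  intro W'
  rw [injective_iff_map_eq_zero]
  intro s hs
  apply eq_zero_of_forall_germ
  intro x hx
  -- affine neighbourhoods
  obtain ⟨U, hU, hxU, -⟩ := exists_isAffineOpen_mem_and_subset (x := f x) (U := ⊤) trivial
  obtain ⟨U', hU', hxU', hle⟩ := exists_isAffineOpen_mem_and_subset (x := x) (U := W' ⊓ f ⁻¹ᵁ U)
    ⟨hx, hxU⟩
  have hle1 : U' ≤ W' := fun y hy => (hle hy).1
  have hle2 : U' ≤ f ⁻¹ᵁ U := fun y hy => (hle hy).2
  set k : Γ(X', U') := X'.presheaf.map (homOfLE hle1).op s with hk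
  suffices hk0 : k = 0 by
    have h1 : X'.presheaf.germ U' x hxU' k = X'.presheaf.germ W' x hx s := by
      rw [hk, ← CommRingCat.comp_apply, X'.presheaf.germ_res]
    rw [← h1, hk0, map_zero]
  by_contra hk0
  let _ : Algebra Γ(X, U) Γ(X', U') := (f.appLE U U' hle2).hom.toAlgebra
  have hflat : Module.Flat Γ(X, U) Γ(X', U') := f.flat_appLE hU hU' hle2
  have hfp : Algebra.FinitePresentation Γ(X, U) Γ(X', U') := f.finitePresentation_appLE hU hU' hle2
  obtain ⟨h, y, hy0, hy⟩ := Groth.Agent.Ega4late.H537.FlatTorsion.exists_torsion_witness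
    (A := Γ(X, U)) k hk0
  -- transfer `y` to the basic open `D(h)`
  have hloc := hU.isLocalization_basicOpen h
  let e : Localization.Away h ≃ₐ[Γ(X, U)] Γ(X, X.basicOpen h) :=
    IsLocalization.algEquiv (Submonoid.powers h) _ _
  apply hy0
  rw [← e.map_eq_zero_iff]
  apply eq_zero_of_isSchematicallyDense hV
  intro z hz hzV
  have hzU : z ∈ U := X.basicOpen_le h hz
  obtain ⟨a, haV, hza⟩ := hU.exists_basicOpen_le (V := V) ⟨z, hzV⟩ hzU
  -- `a ^ n` kills `k`
  obtain ⟨n, hn⟩ : ∃ n : ℕ, (f.appLE U U' hle2 a) ^ n * k = 0 := by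
    apply exists_pow_mul_eq_zero_of_basicOpen_le hU' k _ (U' ⊓ f ⁻¹ᵁ V) inf_le_left
    · have h1 : X'.presheaf.map (homOfLE (show U' ⊓ f ⁻¹ᵁ V ≤ W' ⊓ f ⁻¹ᵁ V from
          inf_le_inf_right _ hle1)).op (X'.presheaf.map (homOfLE inf_le_left).op s) = 0 := by
        rw [hs, map_zero]
      rw [hk, ← CommRingCat.comp_apply, ← Functor.map_comp]
      rw [← CommRingCat.comp_apply, ← Functor.map_comp] at h1
      exact h1
    · refine le_inf (X'.basicOpen_le _) ?_
      have h1 : X'.basicOpen (f.appLE U U' hle2 a) ≤ f ⁻¹ᵁ (X.basicOpen a) := by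
        rw [Scheme.Hom.appLE, CommRingCat.comp_apply, Scheme.basicOpen_res, Scheme.preimage_basicOpen]
        exact inf_le_right
      exact h1.trans (f.preimage_mono haV)
  have h2 := hy (a ^ n) (by
    have h3 : algebraMap Γ(X, U) Γ(X', U') (a ^ n) = (f.appLE U U' hle2 a) ^ n := by
      rw [map_pow]; rfl
    rw [h3, hn])
  have h4 : algebraMap Γ(X, U) Γ(X, X.basicOpen h) (a ^ n) * e y = 0 := by
    have := congrArg e h2
    rwa [map_mul, map_zero, AlgEquiv.commutes] at this
  have h5 := congrArg (X.presheaf.germ (X.basicOpen h) z hz) h4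
  rw [map_mul, map_zero, map_pow, map_pow] at h5
  have h6 : X.presheaf.germ (X.basicOpen h) z hz (algebraMap Γ(X, U) Γ(X, X.basicOpen h) a) =
      X.presheaf.germ U z hzU a := by
    exact TopCat.Presheaf.germ_res_apply X.presheaf (homOfLE (X.basicOpen_le h)) z hz a
  rw [h6] at h5
  have h7 : IsUnit (X.presheaf.germ U z hzU a) := (X.mem_basicOpen a z hzU).mp hza
  exact (h7.pow n).mul_right_eq_zero.mp h5

end Groth.Agent.Ega4late.H537.SchDensePull
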